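import Mathlib
import Groth.Agent.ArtFunLib.Hull.Ring

/-! Finite type refinements controlling maps to a completion. -/

set_option autoImplicit false
set_option linter.style.haveILetI false

namespace Groth.Agent.RelPC13.CplControl

universe u

open IsLocalRing

/-- Adjoin witnesses for congruences of the generators modulo the `N`-th power of the maximal ideal. -/
theorem exists_refinement (R B O : Type u) [CommRing R] [IsNoetherianRing R] [CommRing B] [Algebra R B]
    [Algebra.FiniteType R B] [CommRing O] [IsNoetherianRing O] [IsLocalRing O] [Algebra R O]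
    (p : Ideal R) [p.IsPrime] [IsLocalization.AtPrime O p] (N : ℕ)
    (σ : B →+* AdicCompletion (maximalIdeal O) O)
    (hσ : σ.comp (algebraMap R B) = (algebraMap O (AdicCompletion (maximalIdeal O) O)).comp (algebraMap R O)) :
    ∃ (B' : Type u) (_ : CommRing B') (_ : Algebra B B'), Algebra.FiniteType B B' ∧
      (∃ φ : B' →+* AdicCompletion (maximalIdeal O) O, φ.comp (algebraMap B B') = σ) ∧
      ∀ ψ : B' →+* AdicCompletion (maximalIdeal O) O,
        (ψ.comp (algebraMap B B')).comp (algebraMap R B) =
          (algebraMap O (AdicCompletion (maximalIdeal O) O)).comp (algebraMap R O) →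
        ∀ b : B, σ b - ψ (algebraMap B B' b) ∈
          (maximalIdeal O ^ N).map (algebraMap O (AdicCompletion (maximalIdeal O) O)) := by
  classical
  let C := AdicCompletion (maximalIdeal O) O
  let ι : R →+* C := (algebraMap O C).comp (algebraMap R O)
  let P : Ideal C := (maximalIdeal O ^ N).map (algebraMap O C)
  have hP : P = (maximalIdeal O).map (algebraMap O C) ^ N := Ideal.map_pow _ _ _
  obtain ⟨G, hG⟩ : ∃ G : Finset B, Algebra.adjoin R (G : Set B) = ⊤ := Algebra.FiniteType.out
  -- generators of the power of the maximal ideal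
  obtain ⟨M, hM⟩ : (p ^ N).FG := IsNoetherian.noetherian _
  have hspan : P = Ideal.span (ι '' (M : Set R)) := by
    have e : maximalIdeal O ^ N = (p ^ N).map (algebraMap R O) := by
      rw [Ideal.map_pow, IsLocalization.AtPrime.map_eq_maximalIdeal p O]
    refine (congrArg (Ideal.map (algebraMap O C)) e).trans ?_
    rw [Ideal.map_map, ← hM, Ideal.map_span]
  -- fractions approximating the images of the generators
  have happ : ∀ a : G, ∃ (r : R) (c : p.primeCompl), σ a * ι c - ι r ∈ P := by
    intro a
    obtain ⟨s, hs⟩ := ArtFunLib.Hull.exists_approx (maximalIdeal O) (IsNoetherian.noetherian _) N (σ a)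
    obtain ⟨⟨r, c⟩, hrc⟩ := IsLocalization.surj p.primeCompl s
    refine ⟨r, c, ?_⟩
    have h : σ a * ι c - ι r = (σ a - algebraMap O C s) * ι c := by
      simp only [ι, RingHom.comp_apply, ← hrc, map_mul]; ring
    rw [h, hP]
    exact Ideal.mul_mem_right _ _ hs
  choose r c hrc using happ
  have hy : ∀ a : G, ∃ y : M → C, ∑ m, y m * ι m = σ a * ι (c a) - ι (r a) := by
    intro a
    have h := hrc a
    rw [hspan, Set.image_eq_range, Ideal.mem_span_range_iff_exists_fun] at h
    exact h
  choose y hy using hy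
  let T := MvPolynomial (G × M) B
  let rel : G → T := fun a =>
    (∑ m : M, MvPolynomial.X (a, m) * MvPolynomial.C (algebraMap R B m)) -
      MvPolynomial.C ((a : B) * algebraMap R B (c a) - algebraMap R B (r a))
  let J : Ideal T := Ideal.span (Set.range rel)
  have hσ' : ∀ z : R, σ (algebraMap R B z) = ι z := fun z => RingHom.congr_fun hσ z
  let φ₀ : T →+* C := MvPolynomial.eval₂Hom σ fun am => y am.1 am.2
  have hX : ∀ am, φ₀ (MvPolynomial.X am) = y am.1 am.2 := fun am => MvPolynomial.eval₂_X _ _ _
  have hC : ∀ b, φ₀ (MvPolynomial.C b) = σ b := fun b => MvPolynomial.eval₂_C _ _ _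
  have hφ₀ : ∀ t ∈ J, φ₀ t = 0 := by
    show J ≤ RingHom.ker φ₀
    rw [Ideal.span_le]
    rintro _ ⟨a, rfl⟩
    simp only [SetLike.mem_coe, RingHom.mem_ker, rel, map_sub, map_sum, map_mul, hX, hC, hσ']
    rw [hy a, sub_self]
  refine ⟨T ⧸ J, inferInstance, inferInstance, inferInstance, ⟨Ideal.Quotient.lift J φ₀ hφ₀, ?_⟩, ?_⟩
  · refine RingHom.ext fun b => ?_
    exact hC b
  intro ψ hψ
  let τ : B →+* C := ψ.comp (algebraMap B (T ⧸ J))
  have hτ : ∀ z : R, τ (algebraMap R B z) = ι z := fun z => RingHom.congr_fun hψ z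
  show ∀ b, σ b - τ b ∈ P
  have hgen : ∀ a : G, σ (a : B) - τ (a : B) ∈ P := by
    intro a
    have h1 : ψ (Ideal.Quotient.mk J (rel a)) = 0 := by
      rw [Ideal.Quotient.eq_zero_iff_mem.2 (Ideal.subset_span (Set.mem_range_self a) : rel a ∈ J), map_zero]
    simp only [rel, map_sub, map_sum, map_mul] at h1
    have hC : ∀ b : B, ψ (Ideal.Quotient.mk J (MvPolynomial.C b)) = τ b := fun b => rfl
    simp only [hC, hτ] at h1
    have h2 : τ (a : B) * ι (c a) - ι (r a) ∈ P := by
      rw [← sub_eq_zero.1 h1, hspan]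
      exact sum_mem fun m _ => Ideal.mul_mem_left _ _ (Ideal.subset_span ⟨m, m.2, rfl⟩)
    have h3 : (σ (a : B) - τ (a : B)) * ι (c a) ∈ P := by
      have := sub_mem (hrc a) h2
      convert this using 1
      ring
    have hu : IsUnit (ι (c a)) := (IsLocalization.map_units O (c a)).map (algebraMap O C)
    exact (Ideal.mul_unit_mem_iff_mem _ hu).1 h3
  intro b
  have hb : b ∈ Algebra.adjoin R (G : Set B) := hG ▸ trivial
  induction hb using Algebra.adjoin_induction with
  | mem x hx => exact hgen ⟨x, hx⟩
  | algebraMap z => rw [hσ', hτ, sub_self]; exact P.zero_mem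
  | add x z _ _ hx hz => rw [map_add, map_add, add_sub_add_comm]; exact add_mem hx hz
  | mul x z _ _ hx hz =>
    rw [map_mul, map_mul, show σ x * σ z - τ x * τ z = (σ x - τ x) * σ z + τ x * (σ z - τ z) by ring]
    exact add_mem (Ideal.mul_mem_right _ _ hx) (Ideal.mul_mem_left _ _ hz)

end Groth.Agent.RelPC13.CplControl
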